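import Groth.Agent.RedSub.H658.UGrad
import Groth.Agent.Sga3B.Parab.DynSmooth998
import Mathlib.RingTheory.Bialgebra.Quotient

/-!
# The coordinate ring of `U_G(λ)` over an affine base

`exists_graded`: over `Spec R`, for `G` affine and smooth and a cocharacter `λ` of `G`, the subgroup
`U_G(λ)` is `Spec B` with `B` a smooth Hopf algebra with a positive grading with degree zero part
`R`, the comultiplication being compatible with the filtration by the degree.
-/

set_option autoImplicit false

universe u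

open CategoryTheory MonoidalCategory CartesianMonoidalCategory MonObj GrpObj AlgebraicGeometry Limits
open scoped Polynomial TensorProduct
open Groth.Agent.Books.AffBridge Groth.Agent.Books.DynBasic Groth.Agent.Books.DynLim
open Groth.Agent.Sga3B.Parab Groth.Agent.Sga3B.Parab.Chart998
open Groth.Agent.Sga3B.Parab.DynExist998
open Groth.Agent.Sga3B.Par.ReesDescent (IsGrad filt)

namespace Groth.Agent.RedSub.H658.DynUAff

/-- a morphism which becomes a homomorphism after composition with a monomorphism of groups -/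
lemma isMonHom_of_comp {S : Scheme.{u}} {X Y Z : Over S} [GrpObj X] [GrpObj Y] [GrpObj Z]
    (f : X ⟶ Y) (j : Y ⟶ Z) [IsMonHom j] [Mono j] [IsMonHom (f ≫ j)] : IsMonHom f := by
  apply Sga3B.Pts.isMonHom_of_points
  intro T x y
  rw [← cancel_mono j, Category.assoc, MonObj.mul_comp, MonObj.mul_comp, Category.assoc,
    Category.assoc]

variable {R : Type u} [CommRing R]

instance isMonHom_specMap_mk {A : Type u} [CommRing A] [HopfAlgebra R A] (J : Ideal A)
    [J.IsHopfIdeal R] : IsMonHom (specMap R (Ideal.Quotient.mkₐ R J)) :=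
  isMonHom_specMap R (Bialgebra.Quotient.mkBialgHom (R := R) J)

variable {G U : Over (Spec (CommRingCat.of R))} [GrpObj G] [GrpObj U]
  {lam : Red.Gm (Spec (CommRingCat.of R)) ⟶ G} [IsMonHom lam] {u : U ⟶ G}

/-- `U_G(λ)` in a global chart of `G` -/
theorem exists_iso_quot {A : Type u} [CommRing A] [HopfAlgebra R A] (e : G ≅ SpecOver R A)
    [IsMonHom e.hom] (hu : IsDynU lam u) :
    ∃ (φ : U ≅ SpecOver R (A ⧸ JU (lamB lam (chartId e)))), IsMonHom φ.hom := by
  obtain ⟨φ, hφ⟩ := hu.exists_chart (chartId e)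
  have h1 := hu.isMonHom
  have h2 : IsMonHom (φ.hom ≫ specMap R (Ideal.Quotient.mkₐ R (JU (lamB lam (chartId e))))) := by
    rw [hφ]
    infer_instance
  have h3 : IsMonHom φ.hom := isMonHom_of_comp φ.hom
    (specMap R (Ideal.Quotient.mkₐ R (JU (lamB lam (chartId e)))))
  have h4 : IsMonHom (bcId U).inv := inferInstance
  exact ⟨(bcId U).symm ≪≫ φ, inferInstanceAs (IsMonHom ((bcId U).inv ≫ φ.hom))⟩

/-- **The coordinate ring of `U_G(λ)`.** -/
theorem exists_graded [IsAffineHom G.hom] [Smooth G.hom] (hu : IsDynU lam u) :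
    ∃ (B : Type u) (_ : CommRing B) (_ : HopfAlgebra R B) (e : U ≅ SpecOver R B)
      (_ : IsMonHom e.hom) (δ : B →ₐ[R] Polynomial B), Algebra.Smooth R B ∧ IsGrad δ ∧
      (∀ x, ∃ r, (δ x).coeff 0 = algebraMap R B r) ∧
      ∀ n, ∀ b ∈ filt δ n, ∀ i, n < i →
        LinearMap.rTensor B (Sga3B.Par.ReesDescent.pr δ i) (Coalgebra.comul (R := R) b) = 0 := by
  have hG : IsAffine G.left := isAffine_of_isAffineHom G.hom
  obtain ⟨A, _, _, e, _⟩ := exists_hopf R G
  obtain ⟨φ, hφ⟩ := exists_iso_quot (lam := lam) e hu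
  have hU : Smooth U.hom := DynSmooth998.isDynU_smooth hu
  have hB : Algebra.Smooth R (A ⧸ JU (lamB lam (chartId e))) :=
    (DynSmooth998.smooth_alg _ _).1 (DynSmooth998.smooth_of_iso φ.symm hU)
  exact ⟨A ⧸ JU (lamB lam (chartId e)), inferInstance, inferInstance, φ, hφ,
    UGrad.dd (lamB lam (chartId e)), hB, UGrad.isGrad_dd _, UGrad.exists_coeff_zero _,
    UGrad.comul_filt _⟩

end Groth.Agent.RedSub.H658.DynUAff
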