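import Groth.Agent.Sga3B.Par.ReesDescent
import Groth.Agent.Books.DynLim

/-!
# Cocycles with values in a positively graded smooth group are coboundaries

Let `B` be a smooth commutative Hopf algebra over `R` with a grading in nonnegative degrees
(`δ : B → B[X]`, see `ReesDescent.IsGrad`), `B₀ = R`, such that the comultiplication is
compatible with the filtration by the degree, and let `R → S` be faithfully flat. Then every cocycle
of `S / R` with values in the group `Spec B` is a coboundary (`exists_coboundary`).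
-/

set_option autoImplicit false

open Polynomial TensorProduct WithConv
open Groth.Agent.Books.DynBasic (mapPt)
open Groth.Agent.Books.DynLim (mapPt_comp mapPt_id)
open Groth.Agent.Sga3B.Par.ReesDescent

universe u

namespace Groth.Agent.RedSub.H658.GrH1

section Bc

variable {R : Type u} [CommRing R] {B : Type u} [CommRing B] [Algebra R B]
  (S : Type u) [CommRing S] [Algebra R S]

/-- base change of a grading -/
noncomputable def bcGr (δ : B →ₐ[R] B[X]) : S ⊗[R] B →ₐ[S] (S ⊗[R] B)[X] :=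
  Algebra.TensorProduct.lift (Algebra.ofId S _)
    ((Polynomial.mapAlgHom (Algebra.TensorProduct.includeRight : B →ₐ[R] S ⊗[R] B)).comp δ)
    fun _ _ => Commute.all _ _

variable {S}

lemma bcGr_tmul (δ : B →ₐ[R] B[X]) (s : S) (b : B) : bcGr S δ (s ⊗ₜ b) =
    s • (δ b).map (Algebra.TensorProduct.includeRight : B →ₐ[R] S ⊗[R] B).toRingHom := by
  rw [Algebra.smul_def]
  rfl

lemma coeff_bcGr_tmul (δ : B →ₐ[R] B[X]) (s : S) (b : B) (n : ℕ) :
    (bcGr S δ (s ⊗ₜ b)).coeff n = s ⊗ₜ (δ b).coeff n := by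
  rw [bcGr_tmul, coeff_smul, coeff_map]
  change s • ((1 : S) ⊗ₜ[R] (δ b).coeff n) = _
  rw [TensorProduct.smul_tmul', smul_eq_mul, mul_one]

lemma isGrad_bcGr {δ : B →ₐ[R] B[X]} (hδ : IsGrad δ) : IsGrad (bcGr S δ) where
  eval_one := by
    intro x
    induction x with
    | zero => simp
    | tmul s b =>
      rw [bcGr_tmul, eval_smul, eval_map]
      have h1 : (δ b).eval₂ (Algebra.TensorProduct.includeRight : B →ₐ[R] S ⊗[R] B).toRingHom 1 =
          (Algebra.TensorProduct.includeRight : B →ₐ[R] S ⊗[R] B).toRingHom ((δ b).eval 1) := by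
        rw [← eval₂_at_one]
      rw [h1, hδ.eval_one]
      change s • ((1 : S) ⊗ₜ[R] b) = _
      rw [TensorProduct.smul_tmul', smul_eq_mul, mul_one]
    | add x y hx hy => rw [map_add, eval_add, hx, hy]
  coact := by
    intro x n
    induction x with
    | zero => simp
    | tmul s b =>
      rw [coeff_bcGr_tmul]
      ext m
      rw [coeff_bcGr_tmul, hδ.coact, coeff_monomial, coeff_monomial]
      split_ifs
      · rfl
      · rw [TensorProduct.tmul_zero]
    | add x y hx hy => rw [map_add, coeff_add, map_add, hx, hy, ← map_add]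

lemma coeff_zero_bcGr {δ : B →ₐ[R] B[X]} (h0 : ∀ x, ∃ r, (δ x).coeff 0 = algebraMap R B r)
    (x : S ⊗[R] B) : ∃ s, (bcGr S δ x).coeff 0 = algebraMap S (S ⊗[R] B) s := by
  induction x with
  | zero => exact ⟨0, by simp⟩
  | tmul s b =>
    obtain ⟨r, hr⟩ := h0 b
    refine ⟨r • s, ?_⟩
    rw [coeff_bcGr_tmul, hr, Algebra.TensorProduct.algebraMap_apply, Algebra.algebraMap_self,
      RingHom.id_apply, Algebra.algebraMap_eq_smul_one, TensorProduct.tmul_smul,
      TensorProduct.smul_tmul']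
  | add x y hx hy =>
    obtain ⟨s, hs⟩ := hx
    obtain ⟨t, ht⟩ := hy
    exact ⟨s + t, by rw [map_add, coeff_add, hs, ht, map_add]⟩

end Bc

section Coc

variable {R : Type u} [CommRing R] {B : Type u} [CommRing B] [HopfAlgebra R B]
  {S : Type u} [CommRing S] [Algebra R S]

variable (R B S) in
/-- a cocycle of `S / R` with values in the group `Spec B`, in functorial form -/
structure Cocycle where
  /-- the value on a pair of points of `Spec S` -/
  W : ∀ {E : Type u} [CommRing E] [Algebra R E], (S →ₐ[R] E) → (S →ₐ[R] E) →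
    WithConv (B →ₐ[R] E)
  map : ∀ {E E' : Type u} [CommRing E] [Algebra R E] [CommRing E'] [Algebra R E']
    (φ : E →ₐ[R] E') (σ τ : S →ₐ[R] E), mapPt φ (W σ τ) = W (φ.comp σ) (φ.comp τ)
  trans : ∀ {E : Type u} [CommRing E] [Algebra R E] (σ τ υ : S →ₐ[R] E),
    W τ υ * W σ τ = W σ υ

namespace Cocycle

variable (c : Cocycle R B S) {E : Type u} [CommRing E] [Algebra R E]

lemma self (σ : S →ₐ[R] E) : c.W σ σ = 1 := by
  have h := c.trans σ σ σ
  exact mul_eq_left.1 h

end Cocycle

variable (c : Cocycle R B S)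

variable (R B S) in
/-- the universal point -/
noncomputable def gU : WithConv (B →ₐ[R] S ⊗[R] B) := toConv Algebra.TensorProduct.includeRight

/-- the left structure map -/
noncomputable abbrev sl : S →ₐ[R] S ⊗[R] (S ⊗[R] B) := Algebra.TensorProduct.includeLeft

/-- the structure map of `S ⊗ B` -/
noncomputable abbrev sU : S →ₐ[R] S ⊗[R] B := Algebra.TensorProduct.includeLeft

/-- the right structure map -/
noncomputable abbrev sr : S →ₐ[R] S ⊗[R] (S ⊗[R] B) :=
  (Algebra.TensorProduct.includeRight : S ⊗[R] B →ₐ[R] S ⊗[R] (S ⊗[R] B)).comp sU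

/-- the translated universal point -/
noncomputable def vv : WithConv (B →ₐ[R] S ⊗[R] (S ⊗[R] B)) :=
  mapPt Algebra.TensorProduct.includeRight (gU R B S) * c.W sl sr

/-- the coaction -/
noncomputable def aa : S ⊗[R] B →ₐ[S] S ⊗[R] (S ⊗[R] B) :=
  Algebra.TensorProduct.lift (Algebra.ofId S _) (vv c).ofConv fun _ _ => Commute.all _ _

lemma aa_tmul (s : S) (b : B) : aa c (s ⊗ₜ b) = s • (vv c).ofConv b :=
  (Algebra.smul_def s ((vv c).ofConv b)).symm

/-- the coaction as an `R`-algebra map -/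
noncomputable abbrev aR : S ⊗[R] B →ₐ[R] S ⊗[R] (S ⊗[R] B) := (aa c).restrictScalars R

lemma aR_comp_sU : (aR c).comp sU = sl := by
  refine AlgHom.ext fun s => ?_
  exact (aa c).commutes s

lemma mapPt_aR : mapPt (aR c) (gU R B S) = vv c := by
  apply WithConv.ofConv_injective
  refine AlgHom.ext fun b => ?_
  change aa c (1 ⊗ₜ b) = _
  rw [aa_tmul, one_smul]

lemma algHom_ext' {E : Type u} [CommRing E] [Algebra R E] {f g : S ⊗[R] B →ₐ[R] E}
    (h1 : f.comp sU = g.comp sU) (h2 : mapPt f (gU R B S) = mapPt g (gU R B S)) : f = g := by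
  apply Algebra.TensorProduct.ext
  · refine AlgHom.ext fun s => ?_
    exact DFunLike.congr_fun h1 s
  · refine AlgHom.ext fun b => ?_
    exact DFunLike.congr_fun (congrArg WithConv.ofConv h2) b

/-- the counit property -/
lemma aa_counit (m : S ⊗[R] B) : Desc.CoactDescent.mulMap R S (S ⊗[R] B) (aa c m) = m := by
  let f : S ⊗[R] (S ⊗[R] B) →ₐ[R] S ⊗[R] B :=
    Algebra.TensorProduct.lift sU (AlgHom.id R _) fun _ _ => Commute.all _ _
  have hf : ∀ z, Desc.CoactDescent.mulMap R S (S ⊗[R] B) z = f z := by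
    intro z
    induction z with
    | zero => simp
    | tmul s x =>
      rw [Desc.CoactDescent.mulMap_tmul, Algebra.smul_def]
      rfl
    | add x y hx hy => rw [map_add, map_add, hx, hy]
  have e1 : f.comp (Algebra.TensorProduct.includeRight : S ⊗[R] B →ₐ[R] S ⊗[R] (S ⊗[R] B)) =
      AlgHom.id R _ := by
    ext s <;> simp [f]
  have e2 : f.comp sl = sU := by
    ext s
    simp [f]
  have e3 : f.comp sr = sU := by
    rw [sr, ← AlgHom.comp_assoc, e1, AlgHom.id_comp]
  have h1 : f.comp (aR c) = AlgHom.id R _ := by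
    apply algHom_ext'
    · rw [AlgHom.comp_assoc, aR_comp_sU, e2, AlgHom.id_comp]
    · rw [mapPt_comp, mapPt_aR, vv, map_mul, c.map, ← mapPt_comp, e1, mapPt_id, e2, e3, c.self,
        mul_one]
  rw [hf]
  exact DFunLike.congr_fun h1 m

/-- the key computation for coassociativity -/
lemma coassoc_aux {D : Type u} [CommRing D] [Algebra R D]
    (f₁ f₂ ir : S ⊗[R] (S ⊗[R] B) →ₐ[R] D) (hl : f₁.comp sl = f₂.comp sl)
    (h1 : f₁.comp Algebra.TensorProduct.includeRight = ir.comp (aR c))
    (h2 : f₂.comp Algebra.TensorProduct.includeRight =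
      ir.comp Algebra.TensorProduct.includeRight) :
    f₁.comp (aR c) = f₂.comp (aR c) := by
  have g1 : f₁.comp sr = ir.comp sl := by
    rw [sr, ← AlgHom.comp_assoc, h1, AlgHom.comp_assoc, aR_comp_sU]
  have g2 : f₂.comp sr = ir.comp sr := by
    rw [sr, ← AlgHom.comp_assoc, h2, AlgHom.comp_assoc]
  apply algHom_ext'
  · rw [AlgHom.comp_assoc, AlgHom.comp_assoc, aR_comp_sU, hl]
  · rw [mapPt_comp, mapPt_comp, mapPt_aR, vv, map_mul, map_mul, c.map, c.map, ← mapPt_comp,
      ← mapPt_comp, h1, h2, mapPt_comp, mapPt_aR, vv, map_mul, c.map, ← mapPt_comp, g1, g2,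
      hl, mul_assoc, c.trans]

/-- coassociativity -/
lemma aa_coassoc (m : S ⊗[R] B) :
    LinearMap.lTensor S ((aa c).toLinearMap.restrictScalars R) (aa c m) =
      LinearMap.lTensor S (TensorProduct.mk R S (S ⊗[R] B) 1) (aa c m) := by
  let f₁ : S ⊗[R] (S ⊗[R] B) →ₐ[R] S ⊗[R] (S ⊗[R] (S ⊗[R] B)) :=
    Algebra.TensorProduct.map (AlgHom.id R S) (aR c)
  let f₂ : S ⊗[R] (S ⊗[R] B) →ₐ[R] S ⊗[R] (S ⊗[R] (S ⊗[R] B)) :=
    Algebra.TensorProduct.map (AlgHom.id R S) Algebra.TensorProduct.includeRight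
  have h3 : f₁.comp (aR c) = f₂.comp (aR c) := by
    refine coassoc_aux (D := S ⊗[R] (S ⊗[R] (S ⊗[R] B))) c f₁ f₂
      Algebra.TensorProduct.includeRight ?_ ?_ ?_
    · ext s
      simp [f₁, f₂]
    · refine AlgHom.ext fun s => ?_
      simp [f₁]
    · refine AlgHom.ext fun s => ?_
      simp [f₂]
  have e1 : ∀ z, LinearMap.lTensor S ((aa c).toLinearMap.restrictScalars R) z = f₁ z := by
    intro z
    induction z with
    | zero => simp
    | tmul s x => rfl
    | add x y hx hy => rw [map_add, map_add, hx, hy]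
  have e2 : ∀ z, LinearMap.lTensor S (TensorProduct.mk R S (S ⊗[R] B) 1) z = f₂ z := by
    intro z
    induction z with
    | zero => simp
    | tmul s x => rfl
    | add x y hx hy => rw [map_add, map_add, hx, hy]
  rw [e1, e2]
  exact DFunLike.congr_fun h3 m

/-- values of the product of the universal point with a point defined over `S ⊗ S` -/
noncomputable def KK (w : B →ₐ[R] S ⊗[R] S) : B ⊗[R] B →ₗ[R] S ⊗[R] (S ⊗[R] B) :=
  TensorProduct.lift (LinearMap.mk₂ R (fun x y => ((1 : S) ⊗ₜ[R] ((1 : S) ⊗ₜ[R] x)) *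
    (Algebra.TensorProduct.map (AlgHom.id R S) sU) (w y))
    (fun x y z => by rw [TensorProduct.tmul_add, TensorProduct.tmul_add, add_mul])
    (fun r x y => by
      rw [TensorProduct.tmul_smul, TensorProduct.tmul_smul, smul_mul_assoc])
    (fun x y z => by rw [map_add, map_add, mul_add])
    (fun r x y => by rw [map_smul, map_smul, mul_smul_comm]))

lemma KK_tmul (w : B →ₐ[R] S ⊗[R] S) (x y : B) : KK w (x ⊗ₜ y) =
    ((1 : S) ⊗ₜ[R] ((1 : S) ⊗ₜ[R] x)) * (Algebra.TensorProduct.map (AlgHom.id R S) sU) (w y) :=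
  rfl

lemma lTensor_mul (f : B →ₗ[R] B) (f' : S ⊗[R] B →ₗ[R] S ⊗[R] B)
    (hf : ∀ s b, f' (s ⊗ₜ b) = s ⊗ₜ f b) (x : B) (z : S ⊗[R] S) :
    LinearMap.lTensor S f' (((1 : S) ⊗ₜ[R] ((1 : S) ⊗ₜ[R] x)) *
      (Algebra.TensorProduct.map (AlgHom.id R S) sU) z) = ((1 : S) ⊗ₜ[R] ((1 : S) ⊗ₜ[R] f x)) *
      (Algebra.TensorProduct.map (AlgHom.id R S) sU) z := by
  induction z with
  | zero => simp
  | tmul s t =>
    simp only [Algebra.TensorProduct.map_tmul, AlgHom.coe_id, id_eq,
      Algebra.TensorProduct.includeLeft_apply, Algebra.TensorProduct.tmul_mul_tmul, one_mul,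
      mul_one, LinearMap.lTensor_tmul, hf]
  | add y z hy hz => rw [map_add, mul_add, mul_add, map_add, hy, hz]

lemma lTensor_KK (w : B →ₐ[R] S ⊗[R] S) (f : B →ₗ[R] B) (f' : S ⊗[R] B →ₗ[R] S ⊗[R] B)
    (hf : ∀ s b, f' (s ⊗ₜ b) = s ⊗ₜ f b) (z : B ⊗[R] B) :
    LinearMap.lTensor S f' (KK w z) = KK w (LinearMap.rTensor B f z) := by
  induction z with
  | zero => simp
  | tmul x y => rw [KK_tmul, lTensor_mul f f' hf, LinearMap.rTensor_tmul, KK_tmul]
  | add x y hx hy => rw [map_add, map_add, map_add, map_add, hx, hy]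

lemma vv_eq (b : B) : (vv c).ofConv b =
    KK (c.W (Algebra.TensorProduct.includeLeft : S →ₐ[R] S ⊗[R] S)
      Algebra.TensorProduct.includeRight).ofConv (Coalgebra.comul (R := R) b) := by
  have h1 : c.W (sl (R := R) (B := B) (S := S)) sr =
      mapPt (Algebra.TensorProduct.map (AlgHom.id R S) sU)
      (c.W (Algebra.TensorProduct.includeLeft : S →ₐ[R] S ⊗[R] S)
      Algebra.TensorProduct.includeRight) := by
    rw [c.map]
    congr 1
  rw [vv, h1]
  change (mapPt Algebra.TensorProduct.includeRight (gU R B S) * mapPt _ _ :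
    WithConv (B →ₐ[R] S ⊗[R] (S ⊗[R] B))) b = _
  rw [AlgHom.convMul_apply]
  generalize Coalgebra.comul (R := R) b = z
  induction z with
  | zero => simp
  | tmul x y => rfl
  | add x y hx hy => rw [map_add, map_add, hx, hy]

/-- the coaction is compatible with the filtration -/
lemma aa_filt {δ : B →ₐ[R] B[X]} (hδ : IsGrad δ)
    (hF : ∀ n, ∀ b ∈ filt δ n, ∀ i, n < i →
      LinearMap.rTensor B (pr δ i) (Coalgebra.comul (R := R) b) = 0)
    (n : ℕ) (f : S ⊗[R] B) (hf : f ∈ filt (bcGr S δ) n) (i : ℕ) (hi : n < i) :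
    LinearMap.lTensor S ((pr (bcGr S δ) i).restrictScalars R) (aa c f) = 0 := by
  have key : ∀ (f : S ⊗[R] B) (j : ℕ), j < i →
      LinearMap.lTensor S ((pr (bcGr S δ) i).restrictScalars R)
        (aa c ((bcGr S δ f).coeff j)) = 0 := by
    intro f j hj
    induction f with
    | zero => simp
    | tmul s b =>
      rw [coeff_bcGr_tmul, aa_tmul, vv_eq]
      have h1 : ∀ z : S ⊗[R] (S ⊗[R] B),
          LinearMap.lTensor S ((pr (bcGr S δ) i).restrictScalars R) (s • z) =
          s • LinearMap.lTensor S ((pr (bcGr S δ) i).restrictScalars R) z := by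
        intro z
        induction z with
        | zero => simp
        | tmul t x =>
          rw [TensorProduct.smul_tmul', LinearMap.lTensor_tmul, LinearMap.lTensor_tmul,
            TensorProduct.smul_tmul']
        | add x y hx hy => rw [smul_add, map_add, map_add, smul_add, hx, hy]
      rw [h1, lTensor_KK _ (pr δ i) ((pr (bcGr S δ) i).restrictScalars R)
        (fun s b => coeff_bcGr_tmul δ s b i),
        hF j ((δ b).coeff j) (pr_mem_filt hδ b j j le_rfl) i hj, map_zero,
        smul_zero]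
    | add x y hx hy => rw [map_add, coeff_add, map_add, map_add, hx, hy, add_zero]
  rw [eq_sum (isGrad_bcGr hδ) hf, map_sum, map_sum]
  refine Finset.sum_eq_zero fun j hj => ?_
  rw [Finset.mem_range] at hj
  exact key f j (by omega)

lemma isCoact_aa {δ : B →ₐ[R] B[X]} (hδ : IsGrad δ)
    (hF : ∀ n, ∀ b ∈ filt δ n, ∀ i, n < i →
      LinearMap.rTensor B (pr δ i) (Coalgebra.comul (R := R) b) = 0) :
    IsCoact (bcGr S δ) (aa c) where
  counit := aa_counit c
  coassoc := aa_coassoc c
  filt := aa_filt c hδ hF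

lemma algebraMap_injective : Function.Injective (algebraMap S (S ⊗[R] B)) := by
  let f : S ⊗[R] B →ₐ[S] S := Algebra.TensorProduct.lift (AlgHom.id S S)
    ((Algebra.ofId R S).comp (Bialgebra.counitAlgHom R B)) fun _ _ => Commute.all _ _
  intro s t hst
  have := congrArg f hst
  rwa [AlgHom.commutes, AlgHom.commutes] at this

/-- **Triviality of cocycles** with values in a smooth positively graded group. -/
theorem exists_coboundary [Module.FaithfullyFlat R S] [Algebra.Smooth R B] {δ : B →ₐ[R] B[X]}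
    (hδ : IsGrad δ) (h0 : ∀ x, ∃ r, (δ x).coeff 0 = algebraMap R B r)
    (hF : ∀ n, ∀ b ∈ filt δ n, ∀ i, n < i →
      LinearMap.rTensor B (pr δ i) (Coalgebra.comul (R := R) b) = 0) (c : Cocycle R B S) :
    ∃ u : WithConv (B →ₐ[R] S),
      mapPt (Algebra.TensorProduct.includeLeft : S →ₐ[R] S ⊗[R] S) u =
        mapPt (Algebra.TensorProduct.includeRight : S →ₐ[R] S ⊗[R] S) u *
        c.W (Algebra.TensorProduct.includeLeft : S →ₐ[R] S ⊗[R] S)
          Algebra.TensorProduct.includeRight := by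
  obtain ⟨φ, hφ⟩ := exists_section (isGrad_bcGr hδ) (coeff_zero_bcGr h0) algebraMap_injective
    (isCoact_aa c hδ hF)
  let i₁ : S →ₐ[R] S ⊗[R] S := Algebra.TensorProduct.includeLeft
  let i₂ : S →ₐ[R] S ⊗[R] S := Algebra.TensorProduct.includeRight
  let φR : S ⊗[R] B →ₐ[R] S := φ.restrictScalars R
  have hσ : φR.comp sU = AlgHom.id R S := by
    refine AlgHom.ext fun s => ?_
    exact φ.commutes s
  let θ : S ⊗[R] (S ⊗[R] B) →ₐ[R] S ⊗[R] S := Algebra.TensorProduct.map (AlgHom.id R S) φR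
  have t1 : θ.comp (aR c) = i₁.comp φR := by
    refine AlgHom.ext fun f => ?_
    have h1 : ∀ z, LinearMap.lTensor S (φ.toLinearMap.restrictScalars R) z = θ z := by
      intro z
      induction z with
      | zero => simp
      | tmul s x => rfl
      | add x y hx hy => rw [map_add, map_add, hx, hy]
    have h2 := hφ f
    rw [h1] at h2
    exact h2
  have t2 : θ.comp (Algebra.TensorProduct.includeRight : S ⊗[R] B →ₐ[R] S ⊗[R] (S ⊗[R] B)) =
      i₂.comp φR := by
    refine AlgHom.ext fun f => ?_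
    simp [θ, i₂]
  have t3 : θ.comp sl = i₁ := by
    refine AlgHom.ext fun f => ?_
    simp [θ, i₁]
  have t4 : θ.comp sr = i₂ := by
    rw [sr, ← AlgHom.comp_assoc, t2, AlgHom.comp_assoc, hσ, AlgHom.comp_id]
  refine ⟨mapPt φR (gU R B S), ?_⟩
  have h1 : mapPt θ (vv c) = mapPt i₁ (mapPt φR (gU R B S)) := by
    rw [← mapPt_aR, ← mapPt_comp, t1, mapPt_comp]
  have h2 : mapPt θ (vv c) = mapPt i₂ (mapPt φR (gU R B S)) * c.W i₁ i₂ := by
    rw [vv, map_mul, c.map, ← mapPt_comp, t2, mapPt_comp, t3, t4]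
  rw [← h1, h2]

end Coc

end Groth.Agent.RedSub.H658.GrH1
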