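import Groth.Agent.Sga3B.Par.LevFin622
import Groth.Agent.Sga3B.Par.LeviOfDyn383
import Groth.Agent.Sga3B.SplitFin885

/-!
# The unipotent radical of a parabolic subgroup over an affine base is `U_G(λ)`
-/

set_option autoImplicit false

universe u

open CategoryTheory MonoidalCategory CartesianMonoidalCategory MonObj GrpObj AlgebraicGeometry
open Groth.Agent.Sga3B.Parab

namespace Groth.Agent.RedSub.H658.RadDyn

section

variable {S : Scheme.{u}} {G P U : Over S} [GrpObj G] [GrpObj P] [GrpObj U]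

/-- a unipotent radical of `P_G(λ)` is `U_G(λ)` (any base) -/
theorem isDynU_of_isUnipotentRadical (hG : Red.IsReductive G) (lam : Red.Gm S ⟶ G) [IsMonHom lam]
    (p : P ⟶ G) (hp : IsDynP lam p) (u : U ⟶ P) (hu : Par.IsUnipotentRadical u) :
    IsDynU lam (u ≫ p) := by
  obtain ⟨U', _, _, _, u', _, h1, -, -, h2, -⟩ := Sga3B.Par.LeviOfDyn383.exists_all
    DynGeom678.dynGeomU Uncond688.dynK1 K3b143.dynK3 hG lam p hp
  have hm := hu.1
  have hm' := h2.1
  obtain ⟨f, hf⟩ := h2.2.2.2.2.2.2 U u hu.2.1 hu.2.2.1 hu.2.2.2.1 hu.2.2.2.2.1 hu.2.2.2.2.2.1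
  obtain ⟨f', hf'⟩ := hu.2.2.2.2.2.2 U' u' h2.2.1 h2.2.2.1 h2.2.2.2.1 h2.2.2.2.2.1
    h2.2.2.2.2.2.1
  have hpm := hp.isMonHom
  have hpo := hp.mono
  have hci := hu.2.1
  have hmu : Mono u := Over.mono_of_mono_left u
  refine ⟨inferInstance, mono_comp u p, fun X g => ?_⟩
  rw [← h1.iff_ptU]
  constructor
  · rintro ⟨x, rfl⟩
    exact ⟨x ≫ f, by rw [← hf]; simp only [Category.assoc]⟩
  · rintro ⟨x, rfl⟩
    exact ⟨x ≫ f', by rw [← hf']; simp only [Category.assoc]⟩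

end

/-- **Over an affine base, `P = P_G(λ)` and `rad^u(P) = U_G(λ)` for some `λ`.** -/
theorem exists_cochar {A : Type u} [CommRing A] {G P U : Over (Spec (CommRingCat.of A))}
    [GrpObj G] [GrpObj P] [GrpObj U] (hG : Red.IsReductive G) (p : P ⟶ G)
    (hP : Red.IsParabolic p) (u : U ⟶ P) (hU : Par.IsUnipotentRadical u) :
    ∃ lam : Red.Gm (Spec (CommRingCat.of A)) ⟶ G, IsMonHom lam ∧ IsDynP lam p ∧
      IsDynU lam (u ≫ p) := by
  obtain ⟨lam, hlam, h⟩ :=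
    Sga3B.Par.LevFin622.exists_cochar Sga3B.SplitFin885.splitTStmt hG p hP
  exact ⟨lam, hlam, h, isDynU_of_isUnipotentRadical hG lam p h u hU⟩

end Groth.Agent.RedSub.H658.RadDyn
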