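import Groth.Prelude.Def_RedSub
import Groth.Agent.Etbase.FpqcDescent

/-!
# Representable torsors: the division map, affineness
-/

set_option autoImplicit false

universe u

open CategoryTheory MonoidalCategory CartesianMonoidalCategory MonObj GrpObj AlgebraicGeometry

namespace Groth.Agent.RedSub.H658.TorsDiv

variable {S : Scheme.{u}} {G X : Over S} [GrpObj G] (a : AlgGrp.Action G X)

section Act

variable {T T' : Over S}

/-- the action on points -/
noncomputable def ac (g : T ⟶ G) (x : T ⟶ X) : T ⟶ X := lift g x ≫ a.act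

lemma comp_ac (t : T' ⟶ T) (g : T ⟶ G) (x : T ⟶ X) :
    t ≫ ac a g x = ac a (t ≫ g) (t ≫ x) := by
  rw [ac, ac, ← Category.assoc, comp_lift]

lemma one_ac (x : T ⟶ X) : ac a 1 x = x := by
  have h1 : lift (1 : T ⟶ G) x = lift (toUnit T) x ≫ (η[G] ▷ X) := by
    ext1
    · simp [Hom.one_def]
    · simp
  rw [ac, h1, Category.assoc, a.one_act]
  simp

lemma mul_ac (g h : T ⟶ G) (x : T ⟶ X) : ac a (g * h) x = ac a g (ac a h x) := by
  have h1 : lift (g * h) x = lift (lift g h) x ≫ (μ[G] ▷ X) := by
    ext1
    · simp [Hom.mul_def]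
    · simp
  rw [ac, h1, Category.assoc, a.mul_act, ← Category.assoc, ← Category.assoc, ac, ac]
  congr 1
  ext1 <;> simp

end Act

section Div

variable (ha : IsIso (lift a.act (snd G X))) {T T' : Over S}

/-- the unique `g` with `g x = y` -/
noncomputable def dv (x y : T ⟶ X) : T ⟶ G :=
  lift y x ≫ (asIso (lift a.act (snd G X))).inv ≫ fst G X

include ha in
lemma ac_injective {g h : T ⟶ G} {x : T ⟶ X} (hgh : ac a g x = ac a h x) : g = h := by
  have h1 : lift g x ≫ lift a.act (snd G X) = lift h x ≫ lift a.act (snd G X) := by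
    ext1
    · simpa [ac] using hgh
    · simp
  rw [cancel_mono] at h1
  have h2 := congrArg (fun k => k ≫ fst G X) h1
  simpa using h2

lemma ac_dv (x y : T ⟶ X) : ac a (dv a ha x y) x = y := by
  have h1 : lift (dv a ha x y) x = lift y x ≫ (asIso (lift a.act (snd G X))).inv := by
    ext1
    · simp [dv]
    · have h2 : (asIso (lift a.act (snd G X))).inv ≫ snd G X = snd X X := by
        rw [Iso.inv_comp_eq]
        simp
      rw [lift_snd, Category.assoc, h2, lift_snd]
  have h3 : (asIso (lift a.act (snd G X))).inv ≫ a.act = fst X X := by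
    rw [Iso.inv_comp_eq]
    simp
  rw [ac, h1, Category.assoc, h3, lift_fst]

lemma eq_dv {g : T ⟶ G} {x y : T ⟶ X} (h : ac a g x = y) : g = dv a ha x y :=
  ac_injective a ha (h.trans (ac_dv a ha x y).symm)

lemma comp_dv (t : T' ⟶ T) (x y : T ⟶ X) : t ≫ dv a ha x y = dv a ha (t ≫ x) (t ≫ y) := by
  apply eq_dv
  rw [← comp_ac, ac_dv]

lemma dv_mul_dv (x y z : T ⟶ X) : dv a ha y z * dv a ha x y = dv a ha x z := by
  apply eq_dv
  rw [mul_ac, ac_dv, ac_dv]

end Div

section Affine

/-- A torsor under a group affine over the base is affine over the base. -/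
theorem isAffineHom_of_isTorsor [IsAffineHom G.hom] (ha : RedSub.IsTorsor a) :
    IsAffineHom X.hom := by
  obtain ⟨h1, h2, h3, h4⟩ := ha
  have := Etbase.FpqcDescent.descendsAlong_isAffineHom.{u}
  apply MorphismProperty.of_pullback_snd_of_descendsAlong (P := @IsAffineHom)
    (Q := @Surjective ⊓ @Flat ⊓ @LocallyOfFinitePresentation) (f := X.hom) (g := X.hom)
    ⟨⟨h1, h2⟩, h3⟩
  have e1 : (snd X X).left = Limits.pullback.snd X.hom X.hom := rfl
  rw [← e1]
  have e2 : (snd X X).left =
      (asIso (lift a.act (snd G X))).inv.left ≫ (snd G X).left := by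
    rw [← Over.comp_left]
    congr 1
    rw [Iso.eq_inv_comp]
    simp
  rw [e2]
  have e3 : (snd G X).left = Limits.pullback.snd G.hom X.hom := rfl
  have : IsIso (asIso (lift a.act (snd G X))).inv.left := (Over.forget S).map_isIso _
  rw [e3]
  have h5 : IsAffineHom (Limits.pullback.snd G.hom X.hom) :=
    MorphismProperty.pullback_snd (P := @IsAffineHom) G.hom X.hom inferInstance
  exact MorphismProperty.comp_mem _ _ _
    (inferInstance : IsAffineHom (asIso (lift a.act (snd G X))).inv.left) h5

end Affine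

end Groth.Agent.RedSub.H658.TorsDiv
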