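import Groth.Agent.RedSub.H658.GrH1
import Groth.Agent.RedSub.H658.TorsDiv
import Groth.Agent.Books.AffBridge

/-!
# Torsors under positively graded smooth groups over an affine base are trivial
-/

set_option autoImplicit false

universe u

open CategoryTheory MonoidalCategory CartesianMonoidalCategory MonObj GrpObj AlgebraicGeometry
open WithConv TensorProduct
open Groth.Agent.Books.AffBridge
open Groth.Agent.Books.DynBasic (mapPt)
open Groth.Agent.Sga3B.Par.ReesDescent (IsGrad filt)
open Groth.Agent.RedSub.H658.TorsDiv Groth.Agent.RedSub.H658.GrH1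

namespace Groth.Agent.RedSub.H658.TorsTriv

variable {R : Type u} [CommRing R]

section Aff

/-- an affine scheme over `Spec R` is the spectrum of an algebra -/
lemma exists_iso_specOver (X : Over (Spec (CommRingCat.of R))) [IsAffine X.left] :
    ∃ (D : Type u) (_ : CommRing D) (_ : Algebra R D), Nonempty (X ≅ SpecOver R D) := by
  obtain ⟨φ, hφ⟩ := Spec.map_surjective (X.left.isoSpec.inv ≫ X.hom)
  let _ : Algebra R Γ(X.left, ⊤) := φ.hom.toAlgebra
  refine ⟨Γ(X.left, ⊤), inferInstance, inferInstance, ⟨Over.isoMk X.left.isoSpec ?_⟩⟩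
  change X.left.isoSpec.hom ≫ Spec.map (CommRingCat.ofHom φ.hom) = X.hom
  rw [show CommRingCat.ofHom φ.hom = φ from rfl, hφ, Iso.hom_inv_id_assoc]

lemma faithfullyFlat_of_iso {X : Over (Spec (CommRingCat.of R))} {D : Type u} [CommRing D]
    [Algebra R D] (i : X ≅ SpecOver R D) (h1 : Surjective X.hom) (h2 : Flat X.hom) :
    Module.FaithfullyFlat R D := by
  have h3 : Surjective (SpecOver R D).hom := by
    rw [← Over.w i.inv]
    have : IsIso i.inv.left := (Over.forget _).map_isIso i.inv
    infer_instance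
  have h4 : Flat (SpecOver R D).hom := by
    rw [← Over.w i.inv]
    have : IsIso i.inv.left := (Over.forget _).map_isIso i.inv
    infer_instance
  have h5 : RingHom.FaithfullyFlat (algebraMap R D) := by
    have h6 : Flat (Spec.map (CommRingCat.ofHom (algebraMap R D))) ∧
      Surjective (Spec.map (CommRingCat.ofHom (algebraMap R D))) := ⟨h4, h3⟩
    rwa [flat_and_surjective_SpecMap_iff] at h6
  exact (RingHom.faithfullyFlat_algebraMap_iff).1 h5

end Aff

variable {B : Type u} [CommRing B] [HopfAlgebra R B]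
variable {G X : Over (Spec (CommRingCat.of R))} [GrpObj G] (a : AlgGrp.Action G X)
variable (e : G ≅ SpecOver R B) [IsMonHom e.hom]

lemma mul_comp_iso {T : Over (Spec (CommRingCat.of R))} (x y : T ⟶ G) :
    (x * y) ≫ e.hom = (x ≫ e.hom) * (y ≫ e.hom) := MonObj.mul_comp x y e.hom

lemma mul_comp_iso_inv {T : Over (Spec (CommRingCat.of R))} (x y : T ⟶ SpecOver R B) :
    (x * y) ≫ e.inv = (x ≫ e.inv) * (y ≫ e.inv) := by
  rw [← cancel_mono e.hom, mul_comp_iso, Category.assoc, Category.assoc, Category.assoc,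
    Iso.inv_hom_id, Category.comp_id, Category.comp_id, Category.comp_id]

variable {D : Type u} [CommRing D] [Algebra R D] (i : X ≅ SpecOver R D)

/-- the point of `X` given by an algebra map -/
noncomputable def xpt {E : Type u} [CommRing E] [Algebra R E] (σ : D →ₐ[R] E) :
    SpecOver R E ⟶ X := specMap R σ ≫ i.inv

lemma comp_xpt {E E' : Type u} [CommRing E] [Algebra R E] [CommRing E'] [Algebra R E']
    (φ : E →ₐ[R] E') (σ : D →ₐ[R] E) : specMap R φ ≫ xpt i σ = xpt i (φ.comp σ) := by
  rw [xpt, xpt, specMap_comp, Category.assoc]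

variable (ha : IsIso (lift a.act (snd G X)))

/-- the cocycle of a torsor -/
noncomputable def coc : Cocycle R B D where
  W σ τ := toConv (specPreimage R (dv a ha (xpt i σ) (xpt i τ) ≫ e.hom))
  map := by
    intro E E' _ _ _ _ φ σ τ
    apply WithConv.ofConv_injective
    apply specMap_injective R
    change specMap R (φ.comp (specPreimage R (dv a ha (xpt i σ) (xpt i τ) ≫ e.hom))) =
      specMap R (specPreimage R (dv a ha (xpt i (φ.comp σ)) (xpt i (φ.comp τ)) ≫ e.hom))
    rw [specMap_comp, specMap_specPreimage, specMap_specPreimage, ← Category.assoc, comp_dv,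
      comp_xpt, comp_xpt]
  trans := by
    intro E _ _ σ τ υ
    apply WithConv.ofConv_injective
    apply specMap_injective R
    rw [specMap_mul]
    change specMap R (specPreimage R (dv a ha (xpt i τ) (xpt i υ) ≫ e.hom)) *
      specMap R (specPreimage R (dv a ha (xpt i σ) (xpt i τ) ≫ e.hom)) =
      specMap R (specPreimage R (dv a ha (xpt i σ) (xpt i υ) ≫ e.hom))
    rw [specMap_specPreimage, specMap_specPreimage, specMap_specPreimage, ← mul_comp_iso,
      dv_mul_dv]

lemma specMap_coc {E : Type u} [CommRing E] [Algebra R E] (σ τ : D →ₐ[R] E) :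
    specMap R ((coc a e i ha).W σ τ).ofConv ≫ e.inv = dv a ha (xpt i σ) (xpt i τ) := by
  change specMap R (specPreimage R (dv a ha (xpt i σ) (xpt i τ) ≫ e.hom)) ≫ e.inv = _
  rw [specMap_specPreimage, Category.assoc, Iso.hom_inv_id, Category.comp_id]

/-- a coboundary gives a point on which both projections agree -/
lemma exists_equalizing (u : WithConv (B →ₐ[R] D))
    (hu : mapPt (Algebra.TensorProduct.includeLeft : D →ₐ[R] D ⊗[R] D) u =
        mapPt (Algebra.TensorProduct.includeRight : D →ₐ[R] D ⊗[R] D) u *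
        (coc a e i ha).W (Algebra.TensorProduct.includeLeft : D →ₐ[R] D ⊗[R] D)
          Algebra.TensorProduct.includeRight) :
    ∃ ψ : D →ₐ[R] D, (Algebra.TensorProduct.includeLeft : D →ₐ[R] D ⊗[R] D).comp ψ =
      (Algebra.TensorProduct.includeRight : D →ₐ[R] D ⊗[R] D).comp ψ := by
  let i₁ : D →ₐ[R] D ⊗[R] D := Algebra.TensorProduct.includeLeft
  let i₂ : D →ₐ[R] D ⊗[R] D := Algebra.TensorProduct.includeRight
  let up : SpecOver R D ⟶ G := specMap R u.ofConv ≫ e.inv
  have hup : ∀ j : D →ₐ[R] D ⊗[R] D, specMap R j ≫ up = specMap R (mapPt j u).ofConv ≫ e.inv := by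
    intro j
    change specMap R j ≫ specMap R u.ofConv ≫ e.inv = specMap R (j.comp u.ofConv) ≫ e.inv
    rw [specMap_comp, Category.assoc]
  let y : SpecOver R D ⟶ X := ac a up (xpt i (AlgHom.id R D))
  have hy : specMap R i₁ ≫ y = specMap R i₂ ≫ y := by
    have h1 : specMap R i₁ ≫ up = (specMap R i₂ ≫ up) * dv a ha (xpt i i₁) (xpt i i₂) := by
      rw [hup, hup, hu, specMap_mul, mul_comp_iso_inv e, specMap_coc]
    rw [comp_ac, comp_ac, comp_xpt, comp_xpt, AlgHom.comp_id, AlgHom.comp_id, h1, mul_ac, ac_dv]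
  refine ⟨specPreimage R (y ≫ i.hom), ?_⟩
  apply specMap_injective R
  rw [specMap_comp, specMap_comp, specMap_specPreimage, ← Category.assoc, ← Category.assoc]
  exact congrArg (fun k => k ≫ i.hom) hy

/-- an equalizing point descends -/
lemma exists_section_of_equalizing [Module.FaithfullyFlat R D] (ψ : D →ₐ[R] D)
    (hψ : (Algebra.TensorProduct.includeLeft : D →ₐ[R] D ⊗[R] D).comp ψ =
      (Algebra.TensorProduct.includeRight : D →ₐ[R] D ⊗[R] D).comp ψ) :
    Nonempty (D →ₐ[R] R) := by
  have h1 : ∀ d, ψ d ∈ (Algebra.ofId R D).range := by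
    intro d
    have h2 : ψ d ⊗ₜ[R] (1 : D) = (1 : D) ⊗ₜ[R] ψ d := DFunLike.congr_fun hψ d
    refine (Algebra.IsEffective.of_faithfullyFlat R D (ψ d)).1 ?_
    rw [Algebra.TensorProduct.includeLeftSubRight_apply, h2, sub_self]
  have h3 : Function.Injective (Algebra.ofId R D) := FaithfulSMul.algebraMap_injective R D
  exact ⟨((AlgEquiv.ofInjective (Algebra.ofId R D) h3).symm : _ →ₐ[R] R).comp
    (ψ.codRestrict _ h1)⟩

variable (R) in
lemma specMap_algebraMap_self :
    Spec.map (CommRingCat.ofHom (algebraMap R R)) = 𝟙 (Spec (CommRingCat.of R)) := by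
  have h : CommRingCat.ofHom (algebraMap R R) = 𝟙 (CommRingCat.of R) := by
    ext x
    rfl
  rw [h, Spec.map_id]

variable (R) in
lemma unit_w : 𝟙 (Spec (CommRingCat.of R)) ≫ (SpecOver R R).hom = 𝟙 _ := by
  change 𝟙 (Spec (CommRingCat.of R)) ≫ Spec.map (CommRingCat.ofHom (algebraMap R R)) = _
  rw [specMap_algebraMap_self, Category.comp_id]

variable (R) in
/-- the unit object as a spectrum -/
noncomputable def unitSpec' : Over.mk (𝟙 (Spec (CommRingCat.of R))) ⟶ SpecOver R R :=
  Over.homMk (𝟙 (Spec (CommRingCat.of R))) (unit_w R)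

variable (R) in
/-- the unit object as a spectrum -/
noncomputable def unitSpec : 𝟙_ (Over (Spec (CommRingCat.of R))) ⟶ SpecOver R R := unitSpec' R

/-- **Triviality of torsors** under a smooth positively graded group over an affine base. -/
theorem hasSection [Algebra.Smooth R B] {δ : B →ₐ[R] Polynomial B}
    (hδ : IsGrad δ) (h0 : ∀ x, ∃ r, (δ x).coeff 0 = algebraMap R B r)
    (hF : ∀ n, ∀ b ∈ filt δ n, ∀ i, n < i →
      LinearMap.rTensor B (Sga3B.Par.ReesDescent.pr δ i) (Coalgebra.comul (R := R) b) = 0)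
    (e : G ≅ SpecOver R B) [IsMonHom e.hom] (a : AlgGrp.Action G X) (ha : RedSub.IsTorsor a) :
    RedSub.HasSection X := by
  have hG : IsAffineHom G.hom := by
    have : IsIso e.hom.left := (Over.forget _).map_isIso e.hom
    rw [← Over.w e.hom]
    exact MorphismProperty.comp_mem (W := @IsAffineHom) _ _ (inferInstance : IsAffineHom e.hom.left)
      (inferInstanceAs (IsAffineHom (Spec.map (CommRingCat.ofHom (algebraMap R B)))))
  have hX : IsAffineHom X.hom := isAffineHom_of_isTorsor a ha
  have hX' : IsAffine X.left := isAffine_of_isAffineHom X.hom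
  obtain ⟨D, _, _, ⟨i⟩⟩ := exists_iso_specOver X
  have hD : Module.FaithfullyFlat R D := faithfullyFlat_of_iso i ha.1 ha.2.1
  obtain ⟨u, hu⟩ := exists_coboundary hδ h0 hF (coc a e i ha.2.2.2)
  obtain ⟨ψ, hψ⟩ := exists_equalizing a e i ha.2.2.2 u hu
  obtain ⟨φ⟩ := exists_section_of_equalizing ψ hψ
  exact ⟨unitSpec R ≫ specMap R φ ≫ i.inv⟩

end Groth.Agent.RedSub.H658.TorsTriv
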