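import Groth.Agent.Sga3B.Par.ReesDescent
import Groth.Agent.Sga3B.GrDynInner678

/-!
# The positive grading of the coordinate ring of `U(λ)`

`A` is a commutative Hopf algebra over `k` and `lam : A → k[T;T⁻¹]` a cocharacter.  The coordinate
ring `A ⧸ JU lam` of the subgroup `U(λ)` carries a grading `dd lam` in nonnegative degrees
(`isGrad_dd`), its degree zero part is `k` (`exists_coeff_zero`) and the comultiplication is
compatible with the filtration by the degree (`comul_filt`).
-/

set_option autoImplicit false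

open LaurentPolynomial TensorProduct WithConv
open Groth.Agent.Books.DynBasic Groth.Agent.Books.DynLim
open Groth.Agent.Sga3B.Par.ReesDescent (IsGrad filt mem_filt eq_sum)

universe u

namespace Groth.Agent.RedSub.H658.UGrad

variable {k A : Type u} [CommRing k] [CommRing A] [HopfAlgebra k A] (lam : A →ₐc[k] k[T;T⁻¹])

/-- the coordinate ring of `U(λ)` -/
abbrev CU : Type u := A ⧸ JU lam

instance hopfIdeal : (JU lam).IsHopfIdeal k := isHopfIdeal_JU lam

lemma mk_limIsOne : Dyn.LimIsOne k A lam (CU lam) (Ideal.Quotient.mkₐ k (JU lam)) := by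
  rw [← vanish_JU_iff]
  intro a ha
  exact Ideal.Quotient.eq_zero_iff_mem.2 ha

/-- the polynomial orbit of the universal point -/
noncomputable def hh : A →ₐ[k] Polynomial (CU lam) := (mk_limIsOne lam).choose

lemma tl_hh : (tl k (CU lam)).comp (hh lam) =
    Dyn.conjOrbit k A lam (CU lam) (Ideal.Quotient.mkₐ k (JU lam)) :=
  (mk_limIsOne lam).choose_spec.1

lemma coeff_hh (a : A) (n : ℕ) :
    (hh lam a).coeff n = Ideal.Quotient.mk (JU lam) (pr lam n a) :=
  coeff_limit lam _ _ (tl_hh lam) a n

lemma hh_eq_zero (a : A) (ha : a ∈ JU lam) : hh lam a = 0 := by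
  have h1 : JP lam ≤ RingHom.ker (hh lam) := by
    refine Ideal.span_le.2 ?_
    rintro x ⟨n, hn, hx⟩
    change hh lam x = 0
    ext m
    rw [coeff_hh, Polynomial.coeff_zero, pr_of_mem lam hx, if_neg (by omega), map_zero]
  have h2 : Ideal.span {a | a ∈ gr lam 0 ∧ Coalgebra.counit (R := k) a = 0} ≤
      RingHom.ker (hh lam) := by
    refine Ideal.span_le.2 ?_
    rintro x ⟨hx, hx0⟩
    change hh lam x = 0
    ext m
    rw [coeff_hh, Polynomial.coeff_zero, pr_of_mem lam hx]
    split_ifs
    · exact Ideal.Quotient.eq_zero_iff_mem.2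
        (Ideal.mem_sup_right (Ideal.subset_span ⟨hx, hx0⟩))
    · rw [map_zero]
  exact (sup_le h1 h2) ha

/-- the grading of the coordinate ring -/
noncomputable def dd : CU lam →ₐ[k] Polynomial (CU lam) :=
  Ideal.Quotient.liftₐ (JU lam) (hh lam) (hh_eq_zero lam)

lemma dd_mk (a : A) : dd lam (Ideal.Quotient.mk (JU lam) a) = hh lam a := rfl

lemma coeff_dd_mk (a : A) (n : ℕ) : (dd lam (Ideal.Quotient.mk (JU lam) a)).coeff n =
    Ideal.Quotient.mk (JU lam) (pr lam n a) := by
  rw [dd_mk, coeff_hh]

theorem isGrad_dd : IsGrad (dd lam) where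
  eval_one := by
    intro x
    obtain ⟨a, rfl⟩ := Ideal.Quotient.mk_surjective x
    rw [dd_mk]
    have h1 := orb_eq lam (1 : (CU lam)ˣ) (toConv (Ideal.Quotient.mkₐ k (JU lam)))
    rw [orb_one, ← conjOrbit_eq, ← tl_hh] at h1
    have h2 := DFunLike.congr_fun (congrArg WithConv.ofConv h1) a
    change Ideal.Quotient.mk (JU lam) a = evR (k := k) 1 (Polynomial.toLaurent (hh lam a)) at h2
    rw [h2]
    generalize hh lam a = p
    induction p using Polynomial.induction_on' with
    | add p q hp hq => rw [Polynomial.eval_add, map_add, map_add, hp, hq]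
    | monomial n a =>
      rw [Polynomial.eval_monomial, Polynomial.toLaurent_C_mul_T, ← single_eq_C_mul_T,
        evR_apply, AddMonoidAlgebra.coeff_single, Finsupp.sum_single_index (by simp)]
      simp
  coact := by
    intro x n
    obtain ⟨a, rfl⟩ := Ideal.Quotient.mk_surjective x
    rw [dd_mk, coeff_hh, dd_mk]
    ext m
    rw [coeff_hh, pr_pr, Polynomial.coeff_monomial]
    by_cases h : n = m
    · rw [if_pos (by exact_mod_cast h), if_pos h]
    · rw [if_neg (by exact_mod_cast h), if_neg h, map_zero]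

theorem exists_coeff_zero (x : CU lam) : ∃ s, (dd lam x).coeff 0 = algebraMap k (CU lam) s := by
  obtain ⟨a, rfl⟩ := Ideal.Quotient.mk_surjective x
  refine ⟨Coalgebra.counit a, ?_⟩
  rw [dd_mk, coeff_hh]
  exact ((limIsOne_iff lam _).1 (mk_limIsOne lam)).2 a

lemma mk_eq_zero_of_neg {n : ℤ} (hn : n < 0) {a : A} (ha : a ∈ gr lam n) :
    Ideal.Quotient.mk (JU lam) a = 0 :=
  Ideal.Quotient.eq_zero_iff_mem.2 (Ideal.mem_sup_left (Ideal.subset_span ⟨n, hn, ha⟩))

/-- the comultiplication on homogeneous elements -/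
lemma comul_homog {j : ℤ} {a : A} (ha : a ∈ gr lam j) (i : ℕ) (hi : j < i) :
    LinearMap.rTensor (CU lam) (Sga3B.Par.ReesDescent.pr (dd lam) i)
      (Coalgebra.comul (R := k) (Ideal.Quotient.mk (JU lam) a)) = 0 := by
  let q : A →ₗ[k] CU lam := (Ideal.Quotient.mkₐ k (JU lam)).toLinearMap
  have h1 : Coalgebra.comul (R := k) (Ideal.Quotient.mk (JU lam) a) =
    TensorProduct.map q q (Coalgebra.comul (R := k) a) := rfl
  rw [h1]
  have h2 : (⨆ i : ℤ, LinearMap.range (TensorProduct.map (gr lam i).subtype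
      (gr lam (j - i)).subtype)) ≤
      LinearMap.ker ((LinearMap.rTensor (CU lam) (Sga3B.Par.ReesDescent.pr (dd lam) i)).comp
        (TensorProduct.map q q)) := by
    apply iSup_le
    rintro m _ ⟨t, rfl⟩
    rw [LinearMap.mem_ker]
    induction t using TensorProduct.induction_on with
    | zero => simp
    | tmul x y =>
      rw [TensorProduct.map_tmul, LinearMap.comp_apply, TensorProduct.map_tmul,
        LinearMap.rTensor_tmul]
      change (dd lam (Ideal.Quotient.mk (JU lam) (x : A))).coeff i ⊗ₜ[k]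
        (Ideal.Quotient.mk (JU lam) (y : A)) = 0
      rw [coeff_dd_mk, pr_of_mem lam x.2]
      split_ifs with h
      · rw [mk_eq_zero_of_neg lam (by omega) y.2, TensorProduct.tmul_zero]
      · rw [map_zero, TensorProduct.zero_tmul]
    | add x y hx hy => rw [map_add, map_add, hx, hy, add_zero]
  exact h2 (Sga3B.GrDynInner678.comul_mem_gr lam ha)

/-- the comultiplication is compatible with the filtration by the degree -/
theorem comul_filt (n : ℕ) (b : CU lam) (hb : b ∈ filt (dd lam) n) (i : ℕ) (hi : n < i) :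
    LinearMap.rTensor (CU lam) (Sga3B.Par.ReesDescent.pr (dd lam) i)
      (Coalgebra.comul (R := k) b) = 0 := by
  obtain ⟨a, rfl⟩ := Ideal.Quotient.mk_surjective b
  rw [eq_sum (isGrad_dd lam) hb, map_sum, map_sum]
  refine Finset.sum_eq_zero fun j hj => ?_
  rw [Finset.mem_range] at hj
  rw [coeff_dd_mk]
  exact comul_homog lam (pr_mem_gr lam _ a) i (by omega)

end Groth.Agent.RedSub.H658.UGrad
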